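import Cfsg.Agent.Lib.ONTable.Data

/-!
# Words and rows for the subgroups PSL(3,7) of the presented O'Nan group
-/

set_option autoImplicit false
set_option linter.all false
set_option Elab.async false
set_option maxHeartbeats 0
set_option maxRecDepth 100000

noncomputable section

namespace Cfsg.Agent.ONL37

open Cfsg.Agent.InvCoset

/-- The root elements. -/
def wX : List ℕ := [0, 1, 2, 3, 2, 1, 3, 4, 3, 2, 1, 3, 2, 1, 4, 3, 2, 1, 0, 3, 2, 4, 3, 2, 1, 0]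
def wY : List ℕ := [0, 1, 0, 3, 2, 3, 2, 1, 4, 3, 2, 1, 3, 2, 1, 3, 4, 3, 2, 1, 3, 2, 4, 3, 2, 1, 0, 3]
def wZ : List ℕ := [1, 0, 2, 4, 3, 2, 1, 5, 4, 3, 2, 1, 3, 2, 1, 3, 4, 3, 2, 1, 3, 2, 4, 3, 2, 1, 5, 4]

/-- A conjugate of the central root element with fifteen fixed rows. -/
def w8 : List ℕ := [1, 2, 1, 3, 2, 3, 4, 3]
def h8 : List ℕ := [1, 2, 4, 3, 2, 1, 5, 4, 3, 2, 1, 0]
def fixed8 : List ℕ := [0, 39710, 40196, 44031, 63269, 71754, 82870, 86407, 86793, 95486, 99164, 106285, 114563, 117201, 120179]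

/-- An element of order seven with one fixed row. -/
def w1 : List ℕ := [1, 2, 1, 3, 2, 3, 6, 4, 3]
def fixed1 : List ℕ := [68882]

/-- The conjugator for the outer automorphism. -/
def gW : List ℕ := [4, 3, 2, 3, 4, 2, 3, 0, 1, 2, 3, 1, 0, 6, 1, 4, 6, 2, 6, 1, 3, 2, 4, 7, 3, 2, 4, 5]

/-- Moves `w1` to `u 5 3 6`. -/
def q2 : List ℕ := [4, 5, 2, 3, 4, 2, 3, 2, 3, 0, 6, 1, 0, 4, 3, 2, 1, 3, 5, 4, 7, 2, 1, 3, 7]

/-- Moves `w1` to `u 4 5 5`. -/
def q3 : List ℕ := [4, 3, 2, 3, 4, 5, 2, 3, 2, 6, 1, 0, 4, 3, 2, 1, 3, 5, 4, 7, 2, 1, 3, 7]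

/-- Moves `w1` to `u 3 5 2`. -/
def q4 : List ℕ := [2, 3, 4, 5, 3, 4, 2, 3, 2, 6, 1, 0, 4, 3, 2, 1, 3, 5, 4, 7, 2, 1, 3, 7]

/-- Moves `w1` to `u 2 3 1`. -/
def q5 : List ℕ := [4, 3, 2, 3, 4, 2, 3, 2, 3, 0, 6, 1, 0, 4, 3, 2, 1, 3, 5, 4, 7, 2, 1, 3, 7]

/-- Rows fixed by a word are listed. -/
def fixChk (w L : List ℕ) : ℕ → ℕ → Bool
  | _, 0 => true
  | a, n + 1 => (!Nat.beq (ONTable.table.runW w a) a || L.any (Nat.beq a)) && fixChk w L (Nat.succ a) n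

theorem fixChk_spec {w L : List ℕ} : ∀ n a, fixChk w L a n = true →
    ∀ i, a ≤ i → i < a + n → ONTable.table.runW w i = i → i ∈ L := by
  intro n
  induction n with
  | zero => intro a _ i h1 h2; omega
  | succ n ih =>
    intro a h i h1 h2 hf
    simp only [fixChk, Bool.and_eq_true] at h
    rcases Nat.eq_or_lt_of_le h1 with e | e
    · subst e
      rcases Bool.or_eq_true _ _ ▸ h.1 with h' | h'
      · rw [hf] at h'; simp at h'
      · obtain ⟨y, hy, hb⟩ := List.any_eq_true.mp h'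
        exact (Nat.eq_of_beq_eq_true hb) ▸ hy
    · exact ih (Nat.succ a) h.2 i (by omega) (by omega) hf

theorem fix_zero (w L : List ℕ) : ∀ i < 0, ONTable.table.runW w i = i → i ∈ L := fun i hi => absurd hi (by omega)

theorem fix_add {w L : List ℕ} (a n : ℕ) (h : ∀ i < a, ONTable.table.runW w i = i → i ∈ L)
    (h' : fixChk w L a n = true) : ∀ i < a + n, ONTable.table.runW w i = i → i ∈ L := fun i hi =>
  (Nat.lt_or_ge i a).elim (h i) fun ha => fixChk_spec n a h' i ha hi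

end Cfsg.Agent.ONL37
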