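import Cfsg.Agent.Lib.ONL37.Data

/-!
# A part of a scan for fixed rows
-/

set_option autoImplicit false
set_option linter.all false
set_option Elab.async false
set_option maxHeartbeats 0
set_option maxRecDepth 100000

noncomputable section

namespace Cfsg.Agent.ONL37

open Cfsg.Agent.InvCoset

theorem scan1_0 : fixChk w1 fixed1 0 1024 = true := by decide +kernel

theorem scan1_1024 : fixChk w1 fixed1 1024 1024 = true := by decide +kernel

theorem scan1_2048 : fixChk w1 fixed1 2048 1024 = true := by decide +kernel

theorem scan1_3072 : fixChk w1 fixed1 3072 1024 = true := by decide +kernel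

theorem scan1_4096 : fixChk w1 fixed1 4096 1024 = true := by decide +kernel

theorem scan1_5120 : fixChk w1 fixed1 5120 1024 = true := by decide +kernel

theorem scan1_6144 : fixChk w1 fixed1 6144 1024 = true := by decide +kernel

theorem scan1_7168 : fixChk w1 fixed1 7168 1024 = true := by decide +kernel

theorem scan1_8192 : fixChk w1 fixed1 8192 1024 = true := by decide +kernel

theorem scan1_9216 : fixChk w1 fixed1 9216 1024 = true := by decide +kernel

theorem scan1_10240 : fixChk w1 fixed1 10240 1024 = true := by decide +kernel

theorem scan1_11264 : fixChk w1 fixed1 11264 1024 = true := by decide +kernel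

theorem scan1_12288 : fixChk w1 fixed1 12288 1024 = true := by decide +kernel

theorem scan1_13312 : fixChk w1 fixed1 13312 1024 = true := by decide +kernel

theorem scan1_14336 : fixChk w1 fixed1 14336 1024 = true := by decide +kernel

theorem scan1_15360 : fixChk w1 fixed1 15360 1024 = true := by decide +kernel

theorem scan1_16384 : fixChk w1 fixed1 16384 1024 = true := by decide +kernel

theorem scan1_17408 : fixChk w1 fixed1 17408 1024 = true := by decide +kernel

theorem scan1_18432 : fixChk w1 fixed1 18432 1024 = true := by decide +kernel

theorem scan1_19456 : fixChk w1 fixed1 19456 1024 = true := by decide +kernel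

theorem scan1_20480 : fixChk w1 fixed1 20480 1024 = true := by decide +kernel

theorem scan1_21504 : fixChk w1 fixed1 21504 1024 = true := by decide +kernel

theorem scan1_22528 : fixChk w1 fixed1 22528 1024 = true := by decide +kernel

theorem scan1_23552 : fixChk w1 fixed1 23552 1024 = true := by decide +kernel

theorem scan1_24576 : fixChk w1 fixed1 24576 1024 = true := by decide +kernel

theorem scan1_25600 : fixChk w1 fixed1 25600 1024 = true := by decide +kernel

theorem scan1_26624 : fixChk w1 fixed1 26624 1024 = true := by decide +kernel

theorem scan1_27648 : fixChk w1 fixed1 27648 1024 = true := by decide +kernel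

theorem scan1_28672 : fixChk w1 fixed1 28672 1024 = true := by decide +kernel

theorem scan1_29696 : fixChk w1 fixed1 29696 1024 = true := by decide +kernel

theorem scan1UpTo0 (h : ∀ i < 0, ONTable.table.runW w1 i = i → i ∈ fixed1) :
    ∀ i < 30720, ONTable.table.runW w1 i = i → i ∈ fixed1 := by
  have h0 := fix_add 0 1024 h scan1_0
  have h1 := fix_add 1024 1024 h0 scan1_1024
  have h2 := fix_add 2048 1024 h1 scan1_2048
  have h3 := fix_add 3072 1024 h2 scan1_3072
  have h4 := fix_add 4096 1024 h3 scan1_4096
  have h5 := fix_add 5120 1024 h4 scan1_5120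
  have h6 := fix_add 6144 1024 h5 scan1_6144
  have h7 := fix_add 7168 1024 h6 scan1_7168
  have h8 := fix_add 8192 1024 h7 scan1_8192
  have h9 := fix_add 9216 1024 h8 scan1_9216
  have h10 := fix_add 10240 1024 h9 scan1_10240
  have h11 := fix_add 11264 1024 h10 scan1_11264
  have h12 := fix_add 12288 1024 h11 scan1_12288
  have h13 := fix_add 13312 1024 h12 scan1_13312
  have h14 := fix_add 14336 1024 h13 scan1_14336
  have h15 := fix_add 15360 1024 h14 scan1_15360
  have h16 := fix_add 16384 1024 h15 scan1_16384
  have h17 := fix_add 17408 1024 h16 scan1_17408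
  have h18 := fix_add 18432 1024 h17 scan1_18432
  have h19 := fix_add 19456 1024 h18 scan1_19456
  have h20 := fix_add 20480 1024 h19 scan1_20480
  have h21 := fix_add 21504 1024 h20 scan1_21504
  have h22 := fix_add 22528 1024 h21 scan1_22528
  have h23 := fix_add 23552 1024 h22 scan1_23552
  have h24 := fix_add 24576 1024 h23 scan1_24576
  have h25 := fix_add 25600 1024 h24 scan1_25600
  have h26 := fix_add 26624 1024 h25 scan1_26624
  have h27 := fix_add 27648 1024 h26 scan1_27648
  have h28 := fix_add 28672 1024 h27 scan1_28672
  have h29 := fix_add 29696 1024 h28 scan1_29696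
  exact h29

end Cfsg.Agent.ONL37
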