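import Cfsg.Agent.Lib.ONL37.Data

/-!
# A part of a scan for fixed rows
-/

set_option autoImplicit false
set_option linter.all false
set_option Elab.async false
set_option maxHeartbeats 0
set_option maxRecDepth 100000

noncomputable section

namespace Cfsg.Agent.ONL37

open Cfsg.Agent.InvCoset

theorem scan1_30720 : fixChk w1 fixed1 30720 1024 = true := by decide +kernel

theorem scan1_31744 : fixChk w1 fixed1 31744 1024 = true := by decide +kernel

theorem scan1_32768 : fixChk w1 fixed1 32768 1024 = true := by decide +kernel

theorem scan1_33792 : fixChk w1 fixed1 33792 1024 = true := by decide +kernel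

theorem scan1_34816 : fixChk w1 fixed1 34816 1024 = true := by decide +kernel

theorem scan1_35840 : fixChk w1 fixed1 35840 1024 = true := by decide +kernel

theorem scan1_36864 : fixChk w1 fixed1 36864 1024 = true := by decide +kernel

theorem scan1_37888 : fixChk w1 fixed1 37888 1024 = true := by decide +kernel

theorem scan1_38912 : fixChk w1 fixed1 38912 1024 = true := by decide +kernel

theorem scan1_39936 : fixChk w1 fixed1 39936 1024 = true := by decide +kernel

theorem scan1_40960 : fixChk w1 fixed1 40960 1024 = true := by decide +kernel

theorem scan1_41984 : fixChk w1 fixed1 41984 1024 = true := by decide +kernel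

theorem scan1_43008 : fixChk w1 fixed1 43008 1024 = true := by decide +kernel

theorem scan1_44032 : fixChk w1 fixed1 44032 1024 = true := by decide +kernel

theorem scan1_45056 : fixChk w1 fixed1 45056 1024 = true := by decide +kernel

theorem scan1_46080 : fixChk w1 fixed1 46080 1024 = true := by decide +kernel

theorem scan1_47104 : fixChk w1 fixed1 47104 1024 = true := by decide +kernel

theorem scan1_48128 : fixChk w1 fixed1 48128 1024 = true := by decide +kernel

theorem scan1_49152 : fixChk w1 fixed1 49152 1024 = true := by decide +kernel

theorem scan1_50176 : fixChk w1 fixed1 50176 1024 = true := by decide +kernel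

theorem scan1_51200 : fixChk w1 fixed1 51200 1024 = true := by decide +kernel

theorem scan1_52224 : fixChk w1 fixed1 52224 1024 = true := by decide +kernel

theorem scan1_53248 : fixChk w1 fixed1 53248 1024 = true := by decide +kernel

theorem scan1_54272 : fixChk w1 fixed1 54272 1024 = true := by decide +kernel

theorem scan1_55296 : fixChk w1 fixed1 55296 1024 = true := by decide +kernel

theorem scan1_56320 : fixChk w1 fixed1 56320 1024 = true := by decide +kernel

theorem scan1_57344 : fixChk w1 fixed1 57344 1024 = true := by decide +kernel

theorem scan1_58368 : fixChk w1 fixed1 58368 1024 = true := by decide +kernel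

theorem scan1_59392 : fixChk w1 fixed1 59392 1024 = true := by decide +kernel

theorem scan1_60416 : fixChk w1 fixed1 60416 1024 = true := by decide +kernel

theorem scan1UpTo1 (h : ∀ i < 30720, ONTable.table.runW w1 i = i → i ∈ fixed1) :
    ∀ i < 61440, ONTable.table.runW w1 i = i → i ∈ fixed1 := by
  have h0 := fix_add 30720 1024 h scan1_30720
  have h1 := fix_add 31744 1024 h0 scan1_31744
  have h2 := fix_add 32768 1024 h1 scan1_32768
  have h3 := fix_add 33792 1024 h2 scan1_33792
  have h4 := fix_add 34816 1024 h3 scan1_34816
  have h5 := fix_add 35840 1024 h4 scan1_35840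
  have h6 := fix_add 36864 1024 h5 scan1_36864
  have h7 := fix_add 37888 1024 h6 scan1_37888
  have h8 := fix_add 38912 1024 h7 scan1_38912
  have h9 := fix_add 39936 1024 h8 scan1_39936
  have h10 := fix_add 40960 1024 h9 scan1_40960
  have h11 := fix_add 41984 1024 h10 scan1_41984
  have h12 := fix_add 43008 1024 h11 scan1_43008
  have h13 := fix_add 44032 1024 h12 scan1_44032
  have h14 := fix_add 45056 1024 h13 scan1_45056
  have h15 := fix_add 46080 1024 h14 scan1_46080
  have h16 := fix_add 47104 1024 h15 scan1_47104
  have h17 := fix_add 48128 1024 h16 scan1_48128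
  have h18 := fix_add 49152 1024 h17 scan1_49152
  have h19 := fix_add 50176 1024 h18 scan1_50176
  have h20 := fix_add 51200 1024 h19 scan1_51200
  have h21 := fix_add 52224 1024 h20 scan1_52224
  have h22 := fix_add 53248 1024 h21 scan1_53248
  have h23 := fix_add 54272 1024 h22 scan1_54272
  have h24 := fix_add 55296 1024 h23 scan1_55296
  have h25 := fix_add 56320 1024 h24 scan1_56320
  have h26 := fix_add 57344 1024 h25 scan1_57344
  have h27 := fix_add 58368 1024 h26 scan1_58368
  have h28 := fix_add 59392 1024 h27 scan1_59392
  have h29 := fix_add 60416 1024 h28 scan1_60416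
  exact h29

end Cfsg.Agent.ONL37
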