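import Cfsg.Agent.Lib.ONL37.Data

/-!
# A part of a scan for fixed rows
-/

set_option autoImplicit false
set_option linter.all false
set_option Elab.async false
set_option maxHeartbeats 0
set_option maxRecDepth 100000

noncomputable section

namespace Cfsg.Agent.ONL37

open Cfsg.Agent.InvCoset

theorem scan1_61440 : fixChk w1 fixed1 61440 1024 = true := by decide +kernel

theorem scan1_62464 : fixChk w1 fixed1 62464 1024 = true := by decide +kernel

theorem scan1_63488 : fixChk w1 fixed1 63488 1024 = true := by decide +kernel

theorem scan1_64512 : fixChk w1 fixed1 64512 1024 = true := by decide +kernel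

theorem scan1_65536 : fixChk w1 fixed1 65536 1024 = true := by decide +kernel

theorem scan1_66560 : fixChk w1 fixed1 66560 1024 = true := by decide +kernel

theorem scan1_67584 : fixChk w1 fixed1 67584 1024 = true := by decide +kernel

theorem scan1_68608 : fixChk w1 fixed1 68608 1024 = true := by decide +kernel

theorem scan1_69632 : fixChk w1 fixed1 69632 1024 = true := by decide +kernel

theorem scan1_70656 : fixChk w1 fixed1 70656 1024 = true := by decide +kernel

theorem scan1_71680 : fixChk w1 fixed1 71680 1024 = true := by decide +kernel

theorem scan1_72704 : fixChk w1 fixed1 72704 1024 = true := by decide +kernel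

theorem scan1_73728 : fixChk w1 fixed1 73728 1024 = true := by decide +kernel

theorem scan1_74752 : fixChk w1 fixed1 74752 1024 = true := by decide +kernel

theorem scan1_75776 : fixChk w1 fixed1 75776 1024 = true := by decide +kernel

theorem scan1_76800 : fixChk w1 fixed1 76800 1024 = true := by decide +kernel

theorem scan1_77824 : fixChk w1 fixed1 77824 1024 = true := by decide +kernel

theorem scan1_78848 : fixChk w1 fixed1 78848 1024 = true := by decide +kernel

theorem scan1_79872 : fixChk w1 fixed1 79872 1024 = true := by decide +kernel

theorem scan1_80896 : fixChk w1 fixed1 80896 1024 = true := by decide +kernel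

theorem scan1_81920 : fixChk w1 fixed1 81920 1024 = true := by decide +kernel

theorem scan1_82944 : fixChk w1 fixed1 82944 1024 = true := by decide +kernel

theorem scan1_83968 : fixChk w1 fixed1 83968 1024 = true := by decide +kernel

theorem scan1_84992 : fixChk w1 fixed1 84992 1024 = true := by decide +kernel

theorem scan1_86016 : fixChk w1 fixed1 86016 1024 = true := by decide +kernel

theorem scan1_87040 : fixChk w1 fixed1 87040 1024 = true := by decide +kernel

theorem scan1_88064 : fixChk w1 fixed1 88064 1024 = true := by decide +kernel

theorem scan1_89088 : fixChk w1 fixed1 89088 1024 = true := by decide +kernel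

theorem scan1_90112 : fixChk w1 fixed1 90112 1024 = true := by decide +kernel

theorem scan1_91136 : fixChk w1 fixed1 91136 1024 = true := by decide +kernel

theorem scan1UpTo2 (h : ∀ i < 61440, ONTable.table.runW w1 i = i → i ∈ fixed1) :
    ∀ i < 92160, ONTable.table.runW w1 i = i → i ∈ fixed1 := by
  have h0 := fix_add 61440 1024 h scan1_61440
  have h1 := fix_add 62464 1024 h0 scan1_62464
  have h2 := fix_add 63488 1024 h1 scan1_63488
  have h3 := fix_add 64512 1024 h2 scan1_64512
  have h4 := fix_add 65536 1024 h3 scan1_65536
  have h5 := fix_add 66560 1024 h4 scan1_66560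
  have h6 := fix_add 67584 1024 h5 scan1_67584
  have h7 := fix_add 68608 1024 h6 scan1_68608
  have h8 := fix_add 69632 1024 h7 scan1_69632
  have h9 := fix_add 70656 1024 h8 scan1_70656
  have h10 := fix_add 71680 1024 h9 scan1_71680
  have h11 := fix_add 72704 1024 h10 scan1_72704
  have h12 := fix_add 73728 1024 h11 scan1_73728
  have h13 := fix_add 74752 1024 h12 scan1_74752
  have h14 := fix_add 75776 1024 h13 scan1_75776
  have h15 := fix_add 76800 1024 h14 scan1_76800
  have h16 := fix_add 77824 1024 h15 scan1_77824
  have h17 := fix_add 78848 1024 h16 scan1_78848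
  have h18 := fix_add 79872 1024 h17 scan1_79872
  have h19 := fix_add 80896 1024 h18 scan1_80896
  have h20 := fix_add 81920 1024 h19 scan1_81920
  have h21 := fix_add 82944 1024 h20 scan1_82944
  have h22 := fix_add 83968 1024 h21 scan1_83968
  have h23 := fix_add 84992 1024 h22 scan1_84992
  have h24 := fix_add 86016 1024 h23 scan1_86016
  have h25 := fix_add 87040 1024 h24 scan1_87040
  have h26 := fix_add 88064 1024 h25 scan1_88064
  have h27 := fix_add 89088 1024 h26 scan1_89088
  have h28 := fix_add 90112 1024 h27 scan1_90112
  have h29 := fix_add 91136 1024 h28 scan1_91136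
  exact h29

end Cfsg.Agent.ONL37
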