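import Cfsg.Agent.Lib.ONL37.Data

/-!
# A part of a scan for fixed rows
-/

set_option autoImplicit false
set_option linter.all false
set_option Elab.async false
set_option maxHeartbeats 0
set_option maxRecDepth 100000

noncomputable section

namespace Cfsg.Agent.ONL37

open Cfsg.Agent.InvCoset

theorem scan8_0 : fixChk w8 fixed8 0 1024 = true := by decide +kernel

theorem scan8_1024 : fixChk w8 fixed8 1024 1024 = true := by decide +kernel

theorem scan8_2048 : fixChk w8 fixed8 2048 1024 = true := by decide +kernel

theorem scan8_3072 : fixChk w8 fixed8 3072 1024 = true := by decide +kernel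

theorem scan8_4096 : fixChk w8 fixed8 4096 1024 = true := by decide +kernel

theorem scan8_5120 : fixChk w8 fixed8 5120 1024 = true := by decide +kernel

theorem scan8_6144 : fixChk w8 fixed8 6144 1024 = true := by decide +kernel

theorem scan8_7168 : fixChk w8 fixed8 7168 1024 = true := by decide +kernel

theorem scan8_8192 : fixChk w8 fixed8 8192 1024 = true := by decide +kernel

theorem scan8_9216 : fixChk w8 fixed8 9216 1024 = true := by decide +kernel

theorem scan8_10240 : fixChk w8 fixed8 10240 1024 = true := by decide +kernel

theorem scan8_11264 : fixChk w8 fixed8 11264 1024 = true := by decide +kernel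

theorem scan8_12288 : fixChk w8 fixed8 12288 1024 = true := by decide +kernel

theorem scan8_13312 : fixChk w8 fixed8 13312 1024 = true := by decide +kernel

theorem scan8_14336 : fixChk w8 fixed8 14336 1024 = true := by decide +kernel

theorem scan8_15360 : fixChk w8 fixed8 15360 1024 = true := by decide +kernel

theorem scan8_16384 : fixChk w8 fixed8 16384 1024 = true := by decide +kernel

theorem scan8_17408 : fixChk w8 fixed8 17408 1024 = true := by decide +kernel

theorem scan8_18432 : fixChk w8 fixed8 18432 1024 = true := by decide +kernel

theorem scan8_19456 : fixChk w8 fixed8 19456 1024 = true := by decide +kernel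

theorem scan8_20480 : fixChk w8 fixed8 20480 1024 = true := by decide +kernel

theorem scan8_21504 : fixChk w8 fixed8 21504 1024 = true := by decide +kernel

theorem scan8_22528 : fixChk w8 fixed8 22528 1024 = true := by decide +kernel

theorem scan8_23552 : fixChk w8 fixed8 23552 1024 = true := by decide +kernel

theorem scan8_24576 : fixChk w8 fixed8 24576 1024 = true := by decide +kernel

theorem scan8_25600 : fixChk w8 fixed8 25600 1024 = true := by decide +kernel

theorem scan8_26624 : fixChk w8 fixed8 26624 1024 = true := by decide +kernel

theorem scan8_27648 : fixChk w8 fixed8 27648 1024 = true := by decide +kernel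

theorem scan8_28672 : fixChk w8 fixed8 28672 1024 = true := by decide +kernel

theorem scan8_29696 : fixChk w8 fixed8 29696 1024 = true := by decide +kernel

theorem scan8UpTo0 (h : ∀ i < 0, ONTable.table.runW w8 i = i → i ∈ fixed8) :
    ∀ i < 30720, ONTable.table.runW w8 i = i → i ∈ fixed8 := by
  have h0 := fix_add 0 1024 h scan8_0
  have h1 := fix_add 1024 1024 h0 scan8_1024
  have h2 := fix_add 2048 1024 h1 scan8_2048
  have h3 := fix_add 3072 1024 h2 scan8_3072
  have h4 := fix_add 4096 1024 h3 scan8_4096
  have h5 := fix_add 5120 1024 h4 scan8_5120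
  have h6 := fix_add 6144 1024 h5 scan8_6144
  have h7 := fix_add 7168 1024 h6 scan8_7168
  have h8 := fix_add 8192 1024 h7 scan8_8192
  have h9 := fix_add 9216 1024 h8 scan8_9216
  have h10 := fix_add 10240 1024 h9 scan8_10240
  have h11 := fix_add 11264 1024 h10 scan8_11264
  have h12 := fix_add 12288 1024 h11 scan8_12288
  have h13 := fix_add 13312 1024 h12 scan8_13312
  have h14 := fix_add 14336 1024 h13 scan8_14336
  have h15 := fix_add 15360 1024 h14 scan8_15360
  have h16 := fix_add 16384 1024 h15 scan8_16384
  have h17 := fix_add 17408 1024 h16 scan8_17408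
  have h18 := fix_add 18432 1024 h17 scan8_18432
  have h19 := fix_add 19456 1024 h18 scan8_19456
  have h20 := fix_add 20480 1024 h19 scan8_20480
  have h21 := fix_add 21504 1024 h20 scan8_21504
  have h22 := fix_add 22528 1024 h21 scan8_22528
  have h23 := fix_add 23552 1024 h22 scan8_23552
  have h24 := fix_add 24576 1024 h23 scan8_24576
  have h25 := fix_add 25600 1024 h24 scan8_25600
  have h26 := fix_add 26624 1024 h25 scan8_26624
  have h27 := fix_add 27648 1024 h26 scan8_27648
  have h28 := fix_add 28672 1024 h27 scan8_28672
  have h29 := fix_add 29696 1024 h28 scan8_29696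
  exact h29

end Cfsg.Agent.ONL37
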