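import Cfsg.Agent.Lib.ONL37.Data

/-!
# A part of a scan for fixed rows
-/

set_option autoImplicit false
set_option linter.all false
set_option Elab.async false
set_option maxHeartbeats 0
set_option maxRecDepth 100000

noncomputable section

namespace Cfsg.Agent.ONL37

open Cfsg.Agent.InvCoset

theorem scan8_30720 : fixChk w8 fixed8 30720 1024 = true := by decide +kernel

theorem scan8_31744 : fixChk w8 fixed8 31744 1024 = true := by decide +kernel

theorem scan8_32768 : fixChk w8 fixed8 32768 1024 = true := by decide +kernel

theorem scan8_33792 : fixChk w8 fixed8 33792 1024 = true := by decide +kernel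

theorem scan8_34816 : fixChk w8 fixed8 34816 1024 = true := by decide +kernel

theorem scan8_35840 : fixChk w8 fixed8 35840 1024 = true := by decide +kernel

theorem scan8_36864 : fixChk w8 fixed8 36864 1024 = true := by decide +kernel

theorem scan8_37888 : fixChk w8 fixed8 37888 1024 = true := by decide +kernel

theorem scan8_38912 : fixChk w8 fixed8 38912 1024 = true := by decide +kernel

theorem scan8_39936 : fixChk w8 fixed8 39936 1024 = true := by decide +kernel

theorem scan8_40960 : fixChk w8 fixed8 40960 1024 = true := by decide +kernel

theorem scan8_41984 : fixChk w8 fixed8 41984 1024 = true := by decide +kernel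

theorem scan8_43008 : fixChk w8 fixed8 43008 1024 = true := by decide +kernel

theorem scan8_44032 : fixChk w8 fixed8 44032 1024 = true := by decide +kernel

theorem scan8_45056 : fixChk w8 fixed8 45056 1024 = true := by decide +kernel

theorem scan8_46080 : fixChk w8 fixed8 46080 1024 = true := by decide +kernel

theorem scan8_47104 : fixChk w8 fixed8 47104 1024 = true := by decide +kernel

theorem scan8_48128 : fixChk w8 fixed8 48128 1024 = true := by decide +kernel

theorem scan8_49152 : fixChk w8 fixed8 49152 1024 = true := by decide +kernel

theorem scan8_50176 : fixChk w8 fixed8 50176 1024 = true := by decide +kernel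

theorem scan8_51200 : fixChk w8 fixed8 51200 1024 = true := by decide +kernel

theorem scan8_52224 : fixChk w8 fixed8 52224 1024 = true := by decide +kernel

theorem scan8_53248 : fixChk w8 fixed8 53248 1024 = true := by decide +kernel

theorem scan8_54272 : fixChk w8 fixed8 54272 1024 = true := by decide +kernel

theorem scan8_55296 : fixChk w8 fixed8 55296 1024 = true := by decide +kernel

theorem scan8_56320 : fixChk w8 fixed8 56320 1024 = true := by decide +kernel

theorem scan8_57344 : fixChk w8 fixed8 57344 1024 = true := by decide +kernel

theorem scan8_58368 : fixChk w8 fixed8 58368 1024 = true := by decide +kernel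

theorem scan8_59392 : fixChk w8 fixed8 59392 1024 = true := by decide +kernel

theorem scan8_60416 : fixChk w8 fixed8 60416 1024 = true := by decide +kernel

theorem scan8UpTo1 (h : ∀ i < 30720, ONTable.table.runW w8 i = i → i ∈ fixed8) :
    ∀ i < 61440, ONTable.table.runW w8 i = i → i ∈ fixed8 := by
  have h0 := fix_add 30720 1024 h scan8_30720
  have h1 := fix_add 31744 1024 h0 scan8_31744
  have h2 := fix_add 32768 1024 h1 scan8_32768
  have h3 := fix_add 33792 1024 h2 scan8_33792
  have h4 := fix_add 34816 1024 h3 scan8_34816
  have h5 := fix_add 35840 1024 h4 scan8_35840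
  have h6 := fix_add 36864 1024 h5 scan8_36864
  have h7 := fix_add 37888 1024 h6 scan8_37888
  have h8 := fix_add 38912 1024 h7 scan8_38912
  have h9 := fix_add 39936 1024 h8 scan8_39936
  have h10 := fix_add 40960 1024 h9 scan8_40960
  have h11 := fix_add 41984 1024 h10 scan8_41984
  have h12 := fix_add 43008 1024 h11 scan8_43008
  have h13 := fix_add 44032 1024 h12 scan8_44032
  have h14 := fix_add 45056 1024 h13 scan8_45056
  have h15 := fix_add 46080 1024 h14 scan8_46080
  have h16 := fix_add 47104 1024 h15 scan8_47104
  have h17 := fix_add 48128 1024 h16 scan8_48128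
  have h18 := fix_add 49152 1024 h17 scan8_49152
  have h19 := fix_add 50176 1024 h18 scan8_50176
  have h20 := fix_add 51200 1024 h19 scan8_51200
  have h21 := fix_add 52224 1024 h20 scan8_52224
  have h22 := fix_add 53248 1024 h21 scan8_53248
  have h23 := fix_add 54272 1024 h22 scan8_54272
  have h24 := fix_add 55296 1024 h23 scan8_55296
  have h25 := fix_add 56320 1024 h24 scan8_56320
  have h26 := fix_add 57344 1024 h25 scan8_57344
  have h27 := fix_add 58368 1024 h26 scan8_58368
  have h28 := fix_add 59392 1024 h27 scan8_59392
  have h29 := fix_add 60416 1024 h28 scan8_60416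
  exact h29

end Cfsg.Agent.ONL37
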