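import Cfsg.Agent.Lib.ONL37.Data

/-!
# A part of a scan for fixed rows
-/

set_option autoImplicit false
set_option linter.all false
set_option Elab.async false
set_option maxHeartbeats 0
set_option maxRecDepth 100000

noncomputable section

namespace Cfsg.Agent.ONL37

open Cfsg.Agent.InvCoset

theorem scan8_61440 : fixChk w8 fixed8 61440 1024 = true := by decide +kernel

theorem scan8_62464 : fixChk w8 fixed8 62464 1024 = true := by decide +kernel

theorem scan8_63488 : fixChk w8 fixed8 63488 1024 = true := by decide +kernel

theorem scan8_64512 : fixChk w8 fixed8 64512 1024 = true := by decide +kernel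

theorem scan8_65536 : fixChk w8 fixed8 65536 1024 = true := by decide +kernel

theorem scan8_66560 : fixChk w8 fixed8 66560 1024 = true := by decide +kernel

theorem scan8_67584 : fixChk w8 fixed8 67584 1024 = true := by decide +kernel

theorem scan8_68608 : fixChk w8 fixed8 68608 1024 = true := by decide +kernel

theorem scan8_69632 : fixChk w8 fixed8 69632 1024 = true := by decide +kernel

theorem scan8_70656 : fixChk w8 fixed8 70656 1024 = true := by decide +kernel

theorem scan8_71680 : fixChk w8 fixed8 71680 1024 = true := by decide +kernel

theorem scan8_72704 : fixChk w8 fixed8 72704 1024 = true := by decide +kernel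

theorem scan8_73728 : fixChk w8 fixed8 73728 1024 = true := by decide +kernel

theorem scan8_74752 : fixChk w8 fixed8 74752 1024 = true := by decide +kernel

theorem scan8_75776 : fixChk w8 fixed8 75776 1024 = true := by decide +kernel

theorem scan8_76800 : fixChk w8 fixed8 76800 1024 = true := by decide +kernel

theorem scan8_77824 : fixChk w8 fixed8 77824 1024 = true := by decide +kernel

theorem scan8_78848 : fixChk w8 fixed8 78848 1024 = true := by decide +kernel

theorem scan8_79872 : fixChk w8 fixed8 79872 1024 = true := by decide +kernel

theorem scan8_80896 : fixChk w8 fixed8 80896 1024 = true := by decide +kernel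

theorem scan8_81920 : fixChk w8 fixed8 81920 1024 = true := by decide +kernel

theorem scan8_82944 : fixChk w8 fixed8 82944 1024 = true := by decide +kernel

theorem scan8_83968 : fixChk w8 fixed8 83968 1024 = true := by decide +kernel

theorem scan8_84992 : fixChk w8 fixed8 84992 1024 = true := by decide +kernel

theorem scan8_86016 : fixChk w8 fixed8 86016 1024 = true := by decide +kernel

theorem scan8_87040 : fixChk w8 fixed8 87040 1024 = true := by decide +kernel

theorem scan8_88064 : fixChk w8 fixed8 88064 1024 = true := by decide +kernel

theorem scan8_89088 : fixChk w8 fixed8 89088 1024 = true := by decide +kernel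

theorem scan8_90112 : fixChk w8 fixed8 90112 1024 = true := by decide +kernel

theorem scan8_91136 : fixChk w8 fixed8 91136 1024 = true := by decide +kernel

theorem scan8UpTo2 (h : ∀ i < 61440, ONTable.table.runW w8 i = i → i ∈ fixed8) :
    ∀ i < 92160, ONTable.table.runW w8 i = i → i ∈ fixed8 := by
  have h0 := fix_add 61440 1024 h scan8_61440
  have h1 := fix_add 62464 1024 h0 scan8_62464
  have h2 := fix_add 63488 1024 h1 scan8_63488
  have h3 := fix_add 64512 1024 h2 scan8_64512
  have h4 := fix_add 65536 1024 h3 scan8_65536
  have h5 := fix_add 66560 1024 h4 scan8_66560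
  have h6 := fix_add 67584 1024 h5 scan8_67584
  have h7 := fix_add 68608 1024 h6 scan8_68608
  have h8 := fix_add 69632 1024 h7 scan8_69632
  have h9 := fix_add 70656 1024 h8 scan8_70656
  have h10 := fix_add 71680 1024 h9 scan8_71680
  have h11 := fix_add 72704 1024 h10 scan8_72704
  have h12 := fix_add 73728 1024 h11 scan8_73728
  have h13 := fix_add 74752 1024 h12 scan8_74752
  have h14 := fix_add 75776 1024 h13 scan8_75776
  have h15 := fix_add 76800 1024 h14 scan8_76800
  have h16 := fix_add 77824 1024 h15 scan8_77824
  have h17 := fix_add 78848 1024 h16 scan8_78848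
  have h18 := fix_add 79872 1024 h17 scan8_79872
  have h19 := fix_add 80896 1024 h18 scan8_80896
  have h20 := fix_add 81920 1024 h19 scan8_81920
  have h21 := fix_add 82944 1024 h20 scan8_82944
  have h22 := fix_add 83968 1024 h21 scan8_83968
  have h23 := fix_add 84992 1024 h22 scan8_84992
  have h24 := fix_add 86016 1024 h23 scan8_86016
  have h25 := fix_add 87040 1024 h24 scan8_87040
  have h26 := fix_add 88064 1024 h25 scan8_88064
  have h27 := fix_add 89088 1024 h26 scan8_89088
  have h28 := fix_add 90112 1024 h27 scan8_90112
  have h29 := fix_add 91136 1024 h28 scan8_91136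
  exact h29

end Cfsg.Agent.ONL37
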