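import Cfsg.Agent.Lib.ONL37.Data

/-!
# A part of a scan for fixed rows
-/

set_option autoImplicit false
set_option linter.all false
set_option Elab.async false
set_option maxHeartbeats 0
set_option maxRecDepth 100000

noncomputable section

namespace Cfsg.Agent.ONL37

open Cfsg.Agent.InvCoset

theorem scan8_92160 : fixChk w8 fixed8 92160 1024 = true := by decide +kernel

theorem scan8_93184 : fixChk w8 fixed8 93184 1024 = true := by decide +kernel

theorem scan8_94208 : fixChk w8 fixed8 94208 1024 = true := by decide +kernel

theorem scan8_95232 : fixChk w8 fixed8 95232 1024 = true := by decide +kernel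

theorem scan8_96256 : fixChk w8 fixed8 96256 1024 = true := by decide +kernel

theorem scan8_97280 : fixChk w8 fixed8 97280 1024 = true := by decide +kernel

theorem scan8_98304 : fixChk w8 fixed8 98304 1024 = true := by decide +kernel

theorem scan8_99328 : fixChk w8 fixed8 99328 1024 = true := by decide +kernel

theorem scan8_100352 : fixChk w8 fixed8 100352 1024 = true := by decide +kernel

theorem scan8_101376 : fixChk w8 fixed8 101376 1024 = true := by decide +kernel

theorem scan8_102400 : fixChk w8 fixed8 102400 1024 = true := by decide +kernel

theorem scan8_103424 : fixChk w8 fixed8 103424 1024 = true := by decide +kernel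

theorem scan8_104448 : fixChk w8 fixed8 104448 1024 = true := by decide +kernel

theorem scan8_105472 : fixChk w8 fixed8 105472 1024 = true := by decide +kernel

theorem scan8_106496 : fixChk w8 fixed8 106496 1024 = true := by decide +kernel

theorem scan8_107520 : fixChk w8 fixed8 107520 1024 = true := by decide +kernel

theorem scan8_108544 : fixChk w8 fixed8 108544 1024 = true := by decide +kernel

theorem scan8_109568 : fixChk w8 fixed8 109568 1024 = true := by decide +kernel

theorem scan8_110592 : fixChk w8 fixed8 110592 1024 = true := by decide +kernel

theorem scan8_111616 : fixChk w8 fixed8 111616 1024 = true := by decide +kernel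

theorem scan8_112640 : fixChk w8 fixed8 112640 1024 = true := by decide +kernel

theorem scan8_113664 : fixChk w8 fixed8 113664 1024 = true := by decide +kernel

theorem scan8_114688 : fixChk w8 fixed8 114688 1024 = true := by decide +kernel

theorem scan8_115712 : fixChk w8 fixed8 115712 1024 = true := by decide +kernel

theorem scan8_116736 : fixChk w8 fixed8 116736 1024 = true := by decide +kernel

theorem scan8_117760 : fixChk w8 fixed8 117760 1024 = true := by decide +kernel

theorem scan8_118784 : fixChk w8 fixed8 118784 1024 = true := by decide +kernel

theorem scan8_119808 : fixChk w8 fixed8 119808 1024 = true := by decide +kernel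

theorem scan8_120832 : fixChk w8 fixed8 120832 1024 = true := by decide +kernel

theorem scan8_121856 : fixChk w8 fixed8 121856 904 = true := by decide +kernel

theorem scan8UpTo3 (h : ∀ i < 92160, ONTable.table.runW w8 i = i → i ∈ fixed8) :
    ∀ i < 122760, ONTable.table.runW w8 i = i → i ∈ fixed8 := by
  have h0 := fix_add 92160 1024 h scan8_92160
  have h1 := fix_add 93184 1024 h0 scan8_93184
  have h2 := fix_add 94208 1024 h1 scan8_94208
  have h3 := fix_add 95232 1024 h2 scan8_95232
  have h4 := fix_add 96256 1024 h3 scan8_96256
  have h5 := fix_add 97280 1024 h4 scan8_97280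
  have h6 := fix_add 98304 1024 h5 scan8_98304
  have h7 := fix_add 99328 1024 h6 scan8_99328
  have h8 := fix_add 100352 1024 h7 scan8_100352
  have h9 := fix_add 101376 1024 h8 scan8_101376
  have h10 := fix_add 102400 1024 h9 scan8_102400
  have h11 := fix_add 103424 1024 h10 scan8_103424
  have h12 := fix_add 104448 1024 h11 scan8_104448
  have h13 := fix_add 105472 1024 h12 scan8_105472
  have h14 := fix_add 106496 1024 h13 scan8_106496
  have h15 := fix_add 107520 1024 h14 scan8_107520
  have h16 := fix_add 108544 1024 h15 scan8_108544
  have h17 := fix_add 109568 1024 h16 scan8_109568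
  have h18 := fix_add 110592 1024 h17 scan8_110592
  have h19 := fix_add 111616 1024 h18 scan8_111616
  have h20 := fix_add 112640 1024 h19 scan8_112640
  have h21 := fix_add 113664 1024 h20 scan8_113664
  have h22 := fix_add 114688 1024 h21 scan8_114688
  have h23 := fix_add 115712 1024 h22 scan8_115712
  have h24 := fix_add 116736 1024 h23 scan8_116736
  have h25 := fix_add 117760 1024 h24 scan8_117760
  have h26 := fix_add 118784 1024 h25 scan8_118784
  have h27 := fix_add 119808 1024 h26 scan8_119808
  have h28 := fix_add 120832 1024 h27 scan8_120832
  have h29 := fix_add 121856 904 h28 scan8_121856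
  exact h29

end Cfsg.Agent.ONL37
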