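import Cfsg.Agent.Lib.ONL37.Psi
import Cfsg.Agent.Lib.ONL37.Fix1Part0
import Cfsg.Agent.Lib.ONL37.Fix1Part1
import Cfsg.Agent.Lib.ONL37.Fix1Part2
import Cfsg.Agent.Lib.ONL37.Fix1Part3
import Cfsg.Agent.Lib.ONL37.Fix8Part0
import Cfsg.Agent.Lib.ONL37.Fix8Part1
import Cfsg.Agent.Lib.ONL37.Fix8Part2
import Cfsg.Agent.Lib.ONL37.Fix8Part3
import Cfsg.Agent.Lib.ONOut.Segments

/-!
# Fixed rows of the elements of order seven

An element of the Sylow 7-subgroup fixes two rows exactly when it lies on one of four lines.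
-/

set_option autoImplicit false
set_option linter.all false
set_option maxRecDepth 100000

noncomputable section

namespace Cfsg.Agent.ONL37

open Cfsg.Spor Cfsg.Agent.InvCoset Cfsg.Agent.ONGroup Cfsg.Agent.ONOut

theorem act_mul (g h : ON) (c : Row) : act122760 (g * h) c = act122760 g (act122760 h c) := by
  rw [map_mul, Equiv.Perm.mul_apply]

theorem act_inv_eq {g : ON} {c d : Row} : act122760 g⁻¹ c = d ↔ act122760 g d = c := by
  constructor <;> intro h <;> rw [← h, ← act_mul] <;> simp

theorem act_pow_fix {g : ON} {c : Row} (h : act122760 g c = c) : ∀ n : ℕ, act122760 (g ^ n) c = c := by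
  intro n
  induction n with
  | zero => simp
  | succ n ih => rw [pow_succ, act_mul, h, ih]

theorem fix_iff_run {w : List ℕ} (hw : inRange 8 w = true) (c : Row) :
    act122760 (prodE let8 w) c = c ↔ ONTable.table.runW w c = c := by
  rw [← word_row hw c]
  constructor
  · intro h; rw [act_inv_eq.mpr h]
  · intro h; exact act_inv_eq.mp (Fin.ext h)

/-- At least two fixed rows. -/
def Two (g : ON) : Prop := ∃ c d : Row, c ≠ d ∧ act122760 g c = c ∧ act122760 g d = d

theorem Two.conj {g : ON} (h : Two g) (x : ON) : Two (x * g * x⁻¹) := by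
  obtain ⟨c, d, hne, hc, hd⟩ := h
  refine ⟨act122760 x c, act122760 x d, fun e => hne ((act122760 x).injective e), ?_, ?_⟩
  · rw [← act_mul, inv_mul_cancel_right, act_mul, hc]
  · rw [← act_mul, inv_mul_cancel_right, act_mul, hd]

theorem two_conj_iff (g x : ON) : Two (x * g * x⁻¹) ↔ Two g := by
  refine ⟨fun h => ?_, fun h => h.conj x⟩
  simpa [mul_assoc] using h.conj x⁻¹

theorem Two.pow {g : ON} (h : Two g) (n : ℕ) : Two (g ^ n) := by
  obtain ⟨c, d, hne, hc, hd⟩ := h
  exact ⟨c, d, hne, act_pow_fix hc n, act_pow_fix hd n⟩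

theorem two_psi_conj (g x : L37) : Two (psi (g * x * g⁻¹)) ↔ Two (psi x) := by
  rw [map_mul, map_mul, map_inv]
  exact two_conj_iff _ _

/-- Two elements of one line. -/
theorem two_line {a b c a' b' : F7} (ha : a ≠ 0 ∨ b ≠ 0) (k : F7) (hk : k ≠ 0) (ea : a' = k * a) (eb : b' = k * b)
    (c' : F7) : Two (psi (u a' b' c')) ↔ Two (psi (u a b c)) := by
  have one_way : ∀ (a b c : F7) (k : F7), (a ≠ 0 ∨ b ≠ 0) → k ≠ 0 → ∀ c',
      Two (psi (u a b c)) → Two (psi (u (k * a) (k * b) c')) := by
    intro a b c k hab hk c' h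
    obtain ⟨d, hd⟩ := u_pow a b c k.val
    rw [ZMod.natCast_zmod_val] at hd
    have h' : Two (psi (u (k * a) (k * b) d)) := by rw [← hd, map_pow]; exact h.pow _
    rcases hab with h0 | h0
    · have hka : k * a ≠ 0 := mul_ne_zero hk h0
      have e : u 0 ((d - c') / (k * a)) 0 * u (k * a) (k * b) d * (u 0 ((d - c') / (k * a)) 0)⁻¹ =
          u (k * a) (k * b) c' := by
        have hβ := div_mul_cancel₀ (d - c') hka
        generalize (d - c') / (k * a) = β at hβ ⊢
        rw [u_inv, u_mul, u_mul]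
        congr 1
        · ring
        · ring
        · linear_combination -hβ
      rw [← e, two_psi_conj]
      exact h'
    · have hkb : k * b ≠ 0 := mul_ne_zero hk h0
      have e : u ((c' - d) / (k * b)) 0 0 * u (k * a) (k * b) d * (u ((c' - d) / (k * b)) 0 0)⁻¹ =
          u (k * a) (k * b) c' := by
        have hβ := div_mul_cancel₀ (c' - d) hkb
        generalize (c' - d) / (k * b) = β at hβ ⊢
        rw [u_inv, u_mul, u_mul]
        congr 1
        · ring
        · ring
        · linear_combination hβ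
      rw [← e, two_psi_conj]
      exact h'
  subst ea eb
  refine ⟨fun h => ?_, one_way a b c k ha hk c'⟩
  have hab : k * a ≠ 0 ∨ k * b ≠ 0 := ha.imp (mul_ne_zero hk) (mul_ne_zero hk)
  have h' := one_way (k * a) (k * b) c' k⁻¹ hab (inv_ne_zero hk) c h
  rwa [← mul_assoc, ← mul_assoc, inv_mul_cancel₀ hk, one_mul, one_mul] at h'

/-- The word of `u a b c` in the root elements. -/
def wU (a b c : F7) : List ℕ :=
  (List.replicate a.val wX).flatten ++ (List.replicate b.val wY).flatten ++
    (List.replicate (c - a * b).val wZ).flatten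

theorem wU_X : uWordChk wX 1 0 0 = true := by decide +kernel

theorem wU_Y : uWordChk wY 0 1 0 = true := by decide +kernel

theorem wU_Z : uWordChk wZ 0 0 1 = true := by decide +kernel

theorem psi_wU (a b c : F7) : psi (u a b c) = prodE let8 (wU a b c) := by
  rw [u_split, map_mul, map_mul, map_pow, map_pow, map_pow, psi_word wU_X, psi_word wU_Y, psi_word wU_Z, wU,
    prodE_append, prodE_append, prodE_power, prodE_power, prodE_power]

theorem one_fixed : ∀ c : Row, act122760 (prodE let8 w1) c = c → (c : ℕ) ∈ fixed1 := fun c h =>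
  (scan1UpTo3 (scan1UpTo2 (scan1UpTo1 (scan1UpTo0 (fix_zero w1 fixed1))))) c c.2
    ((fix_iff_run (by decide +kernel) c).mp h)

theorem not_two_w1 : ¬ Two (prodE let8 w1) := by
  rintro ⟨c, d, hne, hc, hd⟩
  have h1 := one_fixed c hc
  have h2 := one_fixed d hd
  simp only [fixed1, List.mem_singleton] at h1 h2
  exact hne (Fin.ext (h1.trans h2.symm))

def qChk (q : List ℕ) (a b c : F7) : Bool :=
  segTriv ([q, w1, invW ONTable.iv q] ++ [invW ONTable.iv (wU a b c)]) && inRange 8 q && inRange 8 (wU a b c)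

theorem not_two_of_q {q : List ℕ} {a b c : F7} (h : qChk q a b c = true) : ¬ Two (psi (u a b c)) := by
  simp only [qChk, Bool.and_eq_true] at h
  have e := segs_eq h.2 h.1.1
  simp only [List.flatten_cons, List.flatten_nil, List.append_nil, prodE_append, prodE_inv h.1.2] at e
  rw [psi_wU, ← e, ← mul_assoc, two_conj_iff]
  exact not_two_w1

theorem bad_two : ¬ Two (psi (u 5 3 6)) := not_two_of_q (q := q2) (by decide +kernel)

theorem bad_three : ¬ Two (psi (u 4 5 5)) := not_two_of_q (q := q3) (by decide +kernel)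

theorem bad_four : ¬ Two (psi (u 3 5 2)) := not_two_of_q (q := q4) (by decide +kernel)

theorem bad_five : ¬ Two (psi (u 2 3 1)) := not_two_of_q (q := q5) (by decide +kernel)

def witChk (a b c : F7) (r : ℕ) : Bool :=
  inRange 8 (wU a b c) && Nat.blt 0 r && Nat.blt r ONTable.table.n &&
    Nat.beq (ONTable.table.runW (wU a b c) r) r && Nat.beq (ONTable.table.runW (wU a b c) 0) 0

theorem two_of_wit {a b c : F7} {r : ℕ} (h : witChk a b c r = true) : Two (psi (u a b c)) := by
  simp only [witChk, Bool.and_eq_true] at h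
  obtain ⟨⟨⟨⟨hw, h0⟩, hn⟩, hr⟩, hz⟩ := h
  have hn' : r < ONTable.table.n := by simpa [Nat.blt] using hn
  have h0' : 0 < r := Nat.le_of_ble_eq_true h0
  rw [psi_wU]
  exact ⟨row0, ⟨r, hn'⟩, fun e => by have := congrArg Fin.val e; simp [row0] at this; omega,
    (fix_iff_run hw row0).mpr (Nat.eq_of_beq_eq_true hz), (fix_iff_run hw _).mpr (Nat.eq_of_beq_eq_true hr)⟩

theorem good_zero : Two (psi (u 1 0 0)) := two_of_wit (r := 401) (by decide +kernel)

theorem good_inf : Two (psi (u 0 1 0)) := two_of_wit (r := 391) (by decide +kernel)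

theorem good_centre : Two (psi (u 0 0 1)) := two_of_wit (r := 79) (by decide +kernel)

theorem good_one : Two (psi (u 1 1 1)) := two_of_wit (r := 995) (by decide +kernel)

theorem good_six : Two (psi (u 1 6 6)) := two_of_wit (r := 79) (by decide +kernel)

theorem slope_cases : ∀ a b : F7, a ≠ 0 →
    (rad a b = true ∧ (b = 0 ∨ b = a ∨ b = 6 * a)) ∨
    (rad a b = false ∧ ((a = a * 3 * 5 ∧ b = a * 3 * 3) ∨ (a = a * 2 * 4 ∧ b = a * 2 * 5) ∨
      (a = a * 5 * 3 ∧ b = a * 5 * 5) ∨ (a = a * 4 * 2 ∧ b = a * 4 * 3))) := by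
  decide +kernel

theorem rad_zero (b : F7) : rad 0 b = true := by revert b; decide +kernel

/-- The criterion. -/
theorem two_iff {a b c : F7} (h : u a b c ≠ 1) : Two (psi (u a b c)) ↔ rad a b = true := by
  rcases eq_or_ne a 0 with rfl | ha
  · refine iff_of_true ?_ (rad_zero b)
    rcases eq_or_ne b 0 with rfl | hb
    · have hc : c ≠ 0 := fun e => h (u_one_iff.mpr ⟨rfl, rfl, e⟩)
      have h' := good_centre.pow c.val
      rwa [← map_pow, u_pow_c, ZMod.natCast_zmod_val, mul_one] at h'
    · exact (two_line (a := 0) (b := 1) (c := 0) (Or.inr one_ne_zero) b hb (mul_zero b).symm (mul_one b).symm c).mpr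
        good_inf
  rcases slope_cases a b ha with ⟨hr, h'⟩ | ⟨hr, h'⟩ <;> rw [hr]
  · simp only [iff_true]
    rcases h' with e | e | e
    · exact (two_line (a := 1) (b := 0) (c := 0) (Or.inl one_ne_zero) a ha (mul_one a).symm
        (by rw [e, mul_zero]) c).mpr good_zero
    · exact (two_line (a := 1) (b := 1) (c := 1) (Or.inl one_ne_zero) a ha (mul_one a).symm
        (by rw [e, mul_one]) c).mpr good_one
    · exact (two_line (a := 1) (b := 6) (c := 6) (Or.inl one_ne_zero) a ha (mul_one a).symm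
        (by rw [e]; ring) c).mpr good_six
  · simp only [Bool.false_eq_true, iff_false]
    rcases h' with ⟨e1, e2⟩ | ⟨e1, e2⟩ | ⟨e1, e2⟩ | ⟨e1, e2⟩
    · exact fun hh => bad_two ((two_line (Or.inl (by decide)) (a * 3) (mul_ne_zero ha (by decide)) e1 e2 c).mp hh)
    · exact fun hh => bad_three ((two_line (Or.inl (by decide)) (a * 2) (mul_ne_zero ha (by decide)) e1 e2 c).mp hh)
    · exact fun hh => bad_four ((two_line (Or.inl (by decide)) (a * 5) (mul_ne_zero ha (by decide)) e1 e2 c).mp hh)
    · exact fun hh => bad_five ((two_line (Or.inl (by decide)) (a * 4) (mul_ne_zero ha (by decide)) e1 e2 c).mp hh)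

/-- The rows fixed by the central root element, as found from `fixed8`. -/
def centreRows : List ℕ := fixed8.map (ONTable.table.runW (invW ONTable.iv h8))

theorem centre_ok : inRange 8 h8 = true ∧ inRange 8 (invW ONTable.iv h8) = true ∧ inRange 8 w8 = true ∧
    inRange 8 wX = true ∧ inRange 8 wY = true ∧ inRange 8 wZ = true ∧
    segTriv ([h8, w8, invW ONTable.iv h8] ++ [invW ONTable.iv wZ]) = true ∧
    (centreRows.all fun c => (!Nat.beq (ONTable.table.runW wX c) c || Nat.beq c 0) &&
      (!Nat.beq (ONTable.table.runW wY c) c || Nat.beq c 0)) = true := by decide +kernel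

theorem fix_centre {c : Row} (h : act122760 (psi (u 0 0 1)) c = c) : (c : ℕ) ∈ centreRows := by
  obtain ⟨hh, hhi, hw8, -, -, hwZ, hseg, -⟩ := centre_ok
  have e := segs_eq hwZ hseg
  simp only [List.flatten_cons, List.flatten_nil, List.append_nil, prodE_append, prodE_inv hh] at e
  rw [psi_word wU_Z, ← e] at h
  set d := act122760 (prodE let8 h8)⁻¹ c with hd
  have hfix : act122760 (prodE let8 w8) d = d := by
    have h' := congrArg (act122760 (prodE let8 h8)⁻¹) h
    rwa [act_mul, act_mul, ← act_mul, inv_mul_cancel, map_one, Equiv.Perm.one_apply, ← hd] at h'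
  have hmem := (scan8UpTo3 (scan8UpTo2 (scan8UpTo1 (scan8UpTo0 (fix_zero w8 fixed8))))) d d.2
    ((fix_iff_run hw8 d).mp hfix)
  refine List.mem_map.mpr ⟨d, hmem, ?_⟩
  rw [← word_row hhi d, prodE_inv hh, inv_inv]
  exact congrArg Fin.val (act_inv_eq.mp hd.symm)

/-- A line of an axis and the centre fix the first row only. -/
theorem common_fixed {a b c d : F7} (hab : (a ≠ 0 ∧ b = 0) ∨ (a = 0 ∧ b ≠ 0)) (hd : d ≠ 0) {r : Row}
    (h1 : act122760 (psi (u a b c)) r = r) (h2 : act122760 (psi (u 0 0 d)) r = r) : r = row0 := by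
  have hZ : act122760 (psi (u 0 0 1)) r = r := by
    have h := act_pow_fix h2 d⁻¹.val
    rwa [← map_pow, u_pow_c, ZMod.natCast_zmod_val, inv_mul_cancel₀ hd] at h
  have hmem := fix_centre hZ
  have hall := List.all_eq_true.mp centre_ok.2.2.2.2.2.2.2 _ hmem
  simp only [Bool.and_eq_true, Bool.or_eq_true, Bool.not_eq_true'] at hall
  have strip : ∀ (w : List ℕ) (x y : F7), inRange 8 w = true → psi (u x y 0) = prodE let8 w →
      ∀ (k : F7) (e : F7), act122760 (psi (u x y e)) r = r → ONTable.table.runW w r = r := by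
    intro w x y hw he k e hr
    refine (fix_iff_run hw r).mp ?_
    have h' : u x y e * u 0 0 1 ^ (-e).val = u x y 0 := by
      rw [u_pow_c, ZMod.natCast_zmod_val, u_mul]
      congr 1 <;> ring
    rw [← he, ← h', map_mul, map_pow, act_mul, act_pow_fix hZ, hr]
  rcases hab with ⟨ha, rfl⟩ | ⟨rfl, hb⟩
  · obtain ⟨x, hx⟩ := u_pow a 0 c a⁻¹.val
    rw [ZMod.natCast_zmod_val, inv_mul_cancel₀ ha, mul_zero] at hx
    have h' := act_pow_fix h1 a⁻¹.val
    rw [← map_pow, hx] at h'
    have hr := strip wX 1 0 centre_ok.2.2.2.1 (psi_word wU_X) 0 x h'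
    rcases hall.1 with h | h
    · rw [hr] at h; simp at h
    · exact Fin.ext (Nat.eq_of_beq_eq_true h)
  · obtain ⟨x, hx⟩ := u_pow 0 b c b⁻¹.val
    rw [ZMod.natCast_zmod_val, inv_mul_cancel₀ hb, mul_zero] at hx
    have h' := act_pow_fix h1 b⁻¹.val
    rw [← map_pow, hx] at h'
    have hr := strip wY 0 1 centre_ok.2.2.2.2.1 (psi_word wU_Y) 0 x h'
    rcases hall.2 with h | h
    · rw [hr] at h; simp at h
    · exact Fin.ext (Nat.eq_of_beq_eq_true h)

end Cfsg.Agent.ONL37
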