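import Cfsg.Agent.Lib.ONL37.Unip
import Cfsg.Agent.Lib.ONGroup.PSL

/-!
# PSL(3,7) inside the presented O'Nan group
-/

set_option autoImplicit false
set_option linter.all false
set_option maxRecDepth 100000

noncomputable section

namespace Cfsg.Agent.ONL37

open Cfsg.Spor Cfsg.Agent.InvCoset Cfsg.Agent.ONGroup Cfsg.Agent.ONGroup.PSLModel

theorem rho_bijective : Function.Bijective rho := by
  have h := evenSub.card_mul_index
  rw [even_index, base_bound.1] at h
  haveI : Finite evenSub := Subtype.finite
  exact (Nat.bijective_iff_surjective_and_card rho).mpr ⟨rho_surjective, by rw [card_L37]; omega⟩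

/-- The embedding of PSL(3,7) onto the subgroup of index 2 of `hSub`. -/
def psi : ONL37.L37 →* ON :=
  (hSub.subtype.comp evenSub.subtype).comp (MulEquiv.ofBijective rho rho_bijective).symm.toMonoidHom

theorem psi_injective : Function.Injective psi := fun x y h =>
  (MulEquiv.ofBijective rho rho_bijective).symm.injective (Subtype.ext (Subtype.ext h))

theorem psi_mem (x : ONL37.L37) : psi x ∈ hSub :=
  ((MulEquiv.ofBijective rho rho_bijective).symm x).1.2

/-- The nine entries of `u a b c`. -/
def u9 (a b c : F7) : Nine := (1, a, c, 0, 1, b, 0, 0, 1)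

/-- A word for `u a b c`. -/
def uWordChk (w : List ℕ) (a b c : F7) : Bool := evenIn w && multChk (pairs9 w one9) (u9 a b c)

theorem psi_word {w : List ℕ} {a b c : F7} (h : uWordChk w a b c = true) : psi (u a b c) = prodE let8 w := by
  simp only [uWordChk, Bool.and_eq_true] at h
  obtain ⟨k, hk⟩ := multChk_spec h.2
  obtain ⟨t, ht, he⟩ := word_inl h.1
  have hw := evenIn_spec h.1
  have hmem : ∀ {v : List ℕ}, (∀ y ∈ v, y < 6) → prodE let8 v ∈ hSub := by
    intro v hv
    induction v with
    | nil => exact one_mem _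
    | cons y v ih =>
      exact mul_mem (mem_hSub (hv y List.mem_cons_self)) (ih fun z hz => hv z (List.mem_cons_of_mem _ hz))
  have hth := theta_word w hw ⟨_, hmem hw⟩ rfl
  have hN : (⟨_, hmem hw⟩ : hSub) ∈ evenSub := by
    show SemidirectProduct.rightHom (PSLModel.theta _) = 1
    rw [hth, he, SemidirectProduct.rightHom_inl]
  have hrho : rho ⟨_, hN⟩ = u a b c := by
    show (PSLModel.theta ⟨_, hmem hw⟩).left = _
    rw [hth, he, SemidirectProduct.left_inl]
    exact ((AutPSL.Basic.mk_eq_mk_iff (uS a b c) t).mpr ⟨k, ht.trans hk⟩).symm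
  have hs : (MulEquiv.ofBijective rho rho_bijective).symm (u a b c) = ⟨_, hN⟩ := by
    rw [MulEquiv.symm_apply_eq]
    exact hrho.symm
  show (((MulEquiv.ofBijective rho rho_bijective).symm (u a b c)).1 : ON) = _
  rw [hs]

end Cfsg.Agent.ONL37
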