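import Cfsg.Agent.Lib.AutPSL.Basic
import Cfsg.Agent.Lib.Classical.PermModel

/-!
# The unitriangular subgroup of PSL(3,7)

The elements `u a b c`, their conjugacy facts, and the finite check on pairs of lines of its Frattini quotient.
-/

set_option autoImplicit false
set_option linter.all false

noncomputable section

namespace Cfsg.Agent.ONL37

open Matrix

instance fact_seven : Fact (Nat.Prime 7) := ⟨by norm_num⟩

abbrev L37 : Type := Matrix.ProjectiveSpecialLinearGroup (Fin 3) (ZMod 7)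
abbrev S37 : Type := Matrix.SpecialLinearGroup (Fin 3) (ZMod 7)
abbrev F7 : Type := ZMod 7

theorem det_u (a b c : F7) : (!![1, a, c; 0, 1, b; 0, 0, 1] : Matrix (Fin 3) (Fin 3) F7).det = 1 := by
  simp [Matrix.det_fin_three]

/-- The unitriangular matrix. -/
def uS (a b c : F7) : S37 := ⟨!![1, a, c; 0, 1, b; 0, 0, 1], det_u a b c⟩

/-- Its image. -/
def u (a b c : F7) : L37 := QuotientGroup.mk (uS a b c)

theorem uS_mul (a b c a' b' c' : F7) :
    uS a b c * uS a' b' c' = uS (a + a') (b + b') (c + c' + a * b') := by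
  apply Subtype.ext
  rw [Matrix.SpecialLinearGroup.coe_mul]
  show (!![1, a, c; 0, 1, b; 0, 0, 1] : Matrix (Fin 3) (Fin 3) F7) * !![1, a', c'; 0, 1, b'; 0, 0, 1] =
    !![1, a + a', c + c' + a * b'; 0, 1, b + b'; 0, 0, 1]
  ext i j
  fin_cases i <;> fin_cases j <;> simp [Matrix.mul_apply, Fin.sum_univ_three] <;> ring

theorem u_mul (a b c a' b' c' : F7) : u a b c * u a' b' c' = u (a + a') (b + b') (c + c' + a * b') := by
  rw [u, u, u, ← QuotientGroup.mk_mul, uS_mul]

theorem u_zero : u 0 0 0 = 1 := by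
  rw [u, AutPSL.Basic.mk_eq_one_iff]
  refine ⟨1, ?_⟩
  ext i j
  fin_cases i <;> fin_cases j <;> simp [uS]

theorem u_eq {a b c a' b' c' : F7} (h : u a b c = u a' b' c') : a = a' ∧ b = b' ∧ c = c' := by
  obtain ⟨k, hk⟩ := (AutPSL.Basic.mk_eq_mk_iff _ _).mp h
  have e : ∀ i j, (uS a' b' c' : Matrix (Fin 3) (Fin 3) F7) i j = k * (uS a b c : Matrix (Fin 3) (Fin 3) F7) i j :=
    fun i j => by rw [hk]; rfl
  have h00 := e 0 0; have h01 := e 0 1; have h02 := e 0 2; have h12 := e 1 2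
  simp [uS] at h00 h01 h02 h12
  subst h00
  exact ⟨by simp [h01], by simp [h12], by simp [h02]⟩

theorem u_one_iff {a b c : F7} : u a b c = 1 ↔ a = 0 ∧ b = 0 ∧ c = 0 :=
  ⟨fun h => u_eq (h.trans u_zero.symm), by rintro ⟨rfl, rfl, rfl⟩; exact u_zero⟩

theorem u_inv (a b c : F7) : (u a b c)⁻¹ = u (-a) (-b) (a * b - c) := by
  refine inv_eq_of_mul_eq_one_right ?_
  rw [u_mul, ← u_zero]
  congr 1 <;> ring

theorem u_pow (a b c : F7) : ∀ n : ℕ, ∃ d, u a b c ^ n = u (n * a) (n * b) d := by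
  intro n
  induction n with
  | zero => exact ⟨0, by simp [u_zero]⟩
  | succ n ih =>
    obtain ⟨d, hd⟩ := ih
    refine ⟨d + c + n * a * b, ?_⟩
    rw [pow_succ, hd, u_mul]
    push_cast
    congr 1 <;> ring

theorem u_pow_a (a : F7) : ∀ n : ℕ, u a 0 0 ^ n = u (n * a) 0 0 := by
  intro n
  induction n with
  | zero => simp [u_zero]
  | succ n ih => rw [pow_succ, ih, u_mul]; push_cast; congr 1 <;> ring

theorem u_pow_b (b : F7) : ∀ n : ℕ, u 0 b 0 ^ n = u 0 (n * b) 0 := by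
  intro n
  induction n with
  | zero => simp [u_zero]
  | succ n ih => rw [pow_succ, ih, u_mul]; push_cast; congr 1 <;> ring

theorem u_pow_c (c : F7) : ∀ n : ℕ, u 0 0 c ^ n = u 0 0 (n * c) := by
  intro n
  induction n with
  | zero => simp [u_zero]
  | succ n ih => rw [pow_succ, ih, u_mul]; push_cast; congr 1 <;> ring

/-- Every element is a word in the three root elements. -/
theorem u_split (a b c : F7) :
    u a b c = u 1 0 0 ^ a.val * u 0 1 0 ^ b.val * u 0 0 1 ^ (c - a * b).val := by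
  rw [u_pow_a, u_pow_b, u_pow_c, ZMod.natCast_zmod_val, ZMod.natCast_zmod_val, ZMod.natCast_zmod_val, u_mul, u_mul]
  congr 1 <;> ring

theorem u_swap (a b c a' b' c' : F7) :
    u a b c * u a' b' c' = u 0 0 (a * b' - a' * b) * (u a' b' c' * u a b c) := by
  rw [u_mul, u_mul, u_mul]
  congr 1 <;> ring

/-- The group of the `u a b c`. -/
def U7 : Subgroup L37 where
  carrier := {g | ∃ a b c, g = u a b c}
  one_mem' := ⟨0, 0, 0, u_zero.symm⟩
  mul_mem' := by rintro _ _ ⟨a, b, c, rfl⟩ ⟨a', b', c', rfl⟩; exact ⟨_, _, _, u_mul a b c a' b' c'⟩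
  inv_mem' := by rintro _ ⟨a, b, c, rfl⟩; exact ⟨_, _, _, u_inv a b c⟩

theorem u_mem (a b c : F7) : u a b c ∈ U7 := ⟨a, b, c, rfl⟩

theorem card_U7 : Nat.card U7 = 7 ^ 3 := by
  have h : Nat.card (F7 × F7 × F7) = Nat.card U7 := by
    refine Nat.card_congr (Equiv.ofBijective (fun p => ⟨u p.1 p.2.1 p.2.2, u_mem _ _ _⟩) ⟨?_, ?_⟩)
    · rintro ⟨a, b, c⟩ ⟨a', b', c'⟩ h
      obtain ⟨rfl, rfl, rfl⟩ := u_eq (Subtype.ext_iff.mp h)
      rfl
    · rintro ⟨_, a, b, c, rfl⟩
      exact ⟨⟨a, b, c⟩, rfl⟩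
  rw [← h]
  simp [Nat.card_prod]

/-- A conjugation is checked on matrices. -/
theorem conj_mk (g : S37) {a b c a' b' c' : F7}
    (h : (g : Matrix (Fin 3) (Fin 3) F7) * !![1, a, c; 0, 1, b; 0, 0, 1] =
      !![1, a', c'; 0, 1, b'; 0, 0, 1] * (g : Matrix (Fin 3) (Fin 3) F7)) :
    (QuotientGroup.mk g : L37) * u a b c * (QuotientGroup.mk g)⁻¹ = u a' b' c' := by
  have e : g * uS a b c = uS a' b' c' * g := Subtype.ext h
  rw [mul_inv_eq_iff_eq_mul, u, u, ← QuotientGroup.mk_mul, ← QuotientGroup.mk_mul, e]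

def sigA : S37 := ⟨!![1, 0, 0; 0, 0, -1; 0, 1, 0], by simp [Matrix.det_fin_three]⟩
def sigB : S37 := ⟨!![0, 1, 0; -1, 0, 0; 0, 0, 1], by simp [Matrix.det_fin_three]⟩
def tauS : S37 := ⟨!![-1, 0, 0; 0, -1, 0; 0, 0, 1], by simp [Matrix.det_fin_three]⟩

theorem sigA_conj : (QuotientGroup.mk sigA : L37) * u 1 0 0 * (QuotientGroup.mk sigA)⁻¹ = u 0 0 1 := by
  refine conj_mk sigA ?_
  decide +kernel

theorem sigB_conj : (QuotientGroup.mk sigB : L37) * u 0 1 0 * (QuotientGroup.mk sigB)⁻¹ = u 0 0 1 := by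
  refine conj_mk sigB ?_
  decide +kernel

theorem tau_conj (a b c : F7) :
    (QuotientGroup.mk tauS : L37) * u a b c * (QuotientGroup.mk tauS)⁻¹ = u a (-b) (-c) := by
  refine conj_mk tauS ?_
  ext i j
  fin_cases i <;> fin_cases j <;> simp [tauS, Matrix.mul_apply, Fin.sum_univ_three]

/-- A transvection. -/
def tr (i j : Fin 3) (h : i ≠ j) : L37 := QuotientGroup.mk (Matrix.SpecialLinearGroup.transvection h (1 : F7))

def t10 : L37 := tr 1 0 (by decide)
def t21 : L37 := tr 2 1 (by decide)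
def t20 : L37 := tr 2 0 (by decide)

theorem tr_coe (i j : Fin 3) (h : i ≠ j) :
    ((Matrix.SpecialLinearGroup.transvection h (1 : F7) : S37) : Matrix (Fin 3) (Fin 3) F7) =
      1 + Matrix.single i j 1 := by
  rw [Matrix.SpecialLinearGroup.transvection_coe]

theorem t10_conj (b c : F7) : t10 * u 0 b c * t10⁻¹ = u 0 (b + c) c := by
  refine conj_mk _ ?_
  rw [tr_coe]
  ext i j
  fin_cases i <;> fin_cases j <;>
    simp [Matrix.mul_apply, Fin.sum_univ_three, Matrix.single_apply, Matrix.one_apply] <;> ring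

theorem t21_conj (a c : F7) : t21 * u a 0 c * t21⁻¹ = u (a - c) 0 c := by
  refine conj_mk _ ?_
  rw [tr_coe]
  ext i j
  fin_cases i <;> fin_cases j <;>
    simp [Matrix.mul_apply, Fin.sum_univ_three, Matrix.single_apply, Matrix.one_apply] <;> ring

theorem t01_eq : tr 0 1 (by decide) = u 1 0 0 := by
  refine congrArg QuotientGroup.mk (Subtype.ext ?_)
  rw [tr_coe]
  decide +kernel

theorem t02_eq : tr 0 2 (by decide) = u 0 0 1 := by
  refine congrArg QuotientGroup.mk (Subtype.ext ?_)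
  rw [tr_coe]
  decide +kernel

theorem t12_eq : tr 1 2 (by decide) = u 0 1 0 := by
  refine congrArg QuotientGroup.mk (Subtype.ext ?_)
  rw [tr_coe]
  decide +kernel

theorem t20_eq : t21 * t10 = t20 * (t10 * t21) := by
  simp only [t21, t10, t20, tr, ← QuotientGroup.mk_mul]
  refine congrArg QuotientGroup.mk (Subtype.ext ?_)
  simp only [Matrix.SpecialLinearGroup.coe_mul, tr_coe]
  decide +kernel

/-- Five elements generate. -/
theorem eq_top_of_mem (K : Subgroup L37) (ha : u 1 0 0 ∈ K) (hb : u 0 1 0 ∈ K) (h1 : t10 ∈ K) (h2 : t21 ∈ K) :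
    K = ⊤ := by
  have hc : u 0 0 1 ∈ K := by
    have h := u_swap 1 0 0 0 1 0
    rw [show (1 : F7) * 1 - 0 * 0 = 1 by ring] at h
    rw [← mul_inv_eq_iff_eq_mul] at h
    exact h ▸ mul_mem (mul_mem ha hb) (inv_mem (mul_mem hb ha))
  have h3 : t20 ∈ K := by
    have h := t20_eq
    rw [← mul_inv_eq_iff_eq_mul] at h
    exact h ▸ mul_mem (mul_mem h2 h1) (inv_mem (mul_mem h1 h2))
  rw [eq_top_iff]
  rintro x -
  induction x using QuotientGroup.induction_on with | H s => ?_
  have hs : s ∈ Subgroup.closure {g : S37 | ∃ (i j : Fin 3) (h : i ≠ j),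
      g = Matrix.SpecialLinearGroup.transvection h 1} := by
    rw [Classical.PermModel.closure_zmod_transvections]; exact Subgroup.mem_top _
  induction hs using Subgroup.closure_induction with
  | mem g hg =>
    obtain ⟨i, j, h, rfl⟩ := hg
    show tr i j h ∈ K
    fin_cases i <;> fin_cases j
    · exact absurd rfl h
    · exact t01_eq ▸ ha
    · exact t02_eq ▸ hc
    · exact h1
    · exact absurd rfl h
    · exact t12_eq ▸ hb
    · exact h3
    · exact h2
    · exact absurd rfl h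
  | one => exact one_mem _
  | mul g g' _ _ hg hg' => rw [QuotientGroup.mk_mul]; exact mul_mem hg hg'
  | inv g _ hg => rw [QuotientGroup.mk_inv]; exact inv_mem hg

/-- The four distinguished lines. -/
def rad (a b : F7) : Bool := a * b * (a * a - b * b) == 0

/-- What is assumed of the two lines. -/
def lineHyp (p1 p2 q1 q2 : F7) : Prop :=
  p1 * q2 - q1 * p2 ≠ 0 ∧ rad p1 p2 = true ∧ rad q1 q2 = true ∧
    ∀ s t : F7, rad (s * p1 + t * q1) (s * p2 + t * q2) = rad (s * p1 - t * q1) (s * p2 - t * q2)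

/-- The first pair of lines. -/
def axesPair (p1 p2 q1 q2 : F7) : Prop := (p2 = 0 ∧ q1 = 0) ∨ (p1 = 0 ∧ q2 = 0)

/-- The second pair of lines. -/
def diagPair (p1 p2 q1 q2 : F7) : Prop := (p1 = p2 ∧ q1 = -q2) ∨ (p1 = -p2 ∧ q1 = q2)

def allF : List F7 := [0, 1, 2, 3, 4, 5, 6]

def pairChk (p1 p2 q1 q2 : F7) : Bool :=
  (p1 * q2 - q1 * p2 == 0) || !rad p1 p2 || !rad q1 q2 ||
    (allF.any fun s => allF.any fun t =>
      rad (s * p1 + t * q1) (s * p2 + t * q2) != rad (s * p1 - t * q1) (s * p2 - t * q2)) ||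
    (p2 == 0 && q1 == 0) || (p1 == 0 && q2 == 0) || (p1 == p2 && q1 == -q2) || (p1 == -p2 && q1 == q2)

theorem pairs_checked :
    (allF.all fun a => allF.all fun b => allF.all fun c => allF.all fun d => pairChk a b c d) = true := by
  decide +kernel

theorem mem_allF : ∀ x : F7, x ∈ allF := by decide +kernel

theorem lines_cases {p1 p2 q1 q2 : F7} (h : lineHyp p1 p2 q1 q2) :
    axesPair p1 p2 q1 q2 ∨ diagPair p1 p2 q1 q2 := by
  have hc := pairs_checked
  simp only [List.all_eq_true] at hc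
  have h' := hc p1 (mem_allF _) p2 (mem_allF _) q1 (mem_allF _) q2 (mem_allF _)
  obtain ⟨hd, hp, hq, hst⟩ := h
  simp only [pairChk, Bool.or_eq_true, beq_iff_eq, Bool.not_eq_true', hp, hq, hd, Bool.false_eq_true,
    Bool.true_eq_false, false_or, or_false, List.any_eq_true, bne_iff_ne, Bool.and_eq_true] at h'
  rcases h' with (((h' | h') | h') | h') | h'
  · obtain ⟨s, -, t, -, hne⟩ := h'
    exact absurd (hst s t) hne
  · exact Or.inl (Or.inl h')
  · exact Or.inl (Or.inr h')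
  · exact Or.inr (Or.inl h')
  · exact Or.inr (Or.inr h')

end Cfsg.Agent.ONL37
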